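import Groth.Agent.H0Growth23.Diff
import Groth.Agent.PicLib.TwistGen

/-!
# Cohomological growth bounds over an arbitrary field

The argument of `H0Growth23.Diff` with sections from large twists, so that no infinite field is needed.
-/

set_option autoImplicit false
set_option linter.style.haveILetI false
set_option linter.unusedSectionVars false
set_option backward.isDefEq.respectTransparency.types false

universe u

open CategoryTheory CategoryTheory.Limits AlgebraicGeometry TopologicalSpace Opposite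
open Groth.Agent.Coherent Groth.Agent.PicLib Groth.Agent.AmpleLib Groth.Agent.H0Growth23

noncomputable section

namespace Groth.Agent.Growth14

variable {X : Scheme.{u}} (k : Type u) [Field k] [X.Over (Spec (CommRingCat.of k))]
  [IsProper (X ↘ Spec (CommRingCat.of k))] {r : ℕ}

include k in
/-- Every class is a difference of classes with sections generating at given points. -/
theorem exists_sections_diff' (hproj : ∃ A : X.Modules, CohB1.IsAmple A) (c : EulerLib.InvCl X) {S : Set X}
    (hS : S.Finite) :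
    ∃ (P Q : X.Modules) (hP : PicF.IsInvertible P) (hQ : PicF.IsInvertible Q),
      c * EulerLib.InvCl.mk Q hQ = EulerLib.InvCl.mk P hP ∧
      (∃ b : Γ(P, (⊤ : X.Opens)), S ⊆ (glocus P b : Set X)) ∧
      ∃ b : Γ(Q, (⊤ : X.Opens)), S ⊆ (glocus Q b : Set X) := by
  obtain ⟨A, hA⟩ := hproj
  obtain ⟨c', hc'⟩ := exists_inv (isInvertible_repCl c)
  rw [mk_repCl] at hc'
  obtain ⟨n₁, h₁⟩ := exists_twist_gen_of_finite hA (isInvertible_repCl c') S hS
  obtain ⟨n₂, h₂⟩ := exists_twist_gen_of_finite hA (isInvertible_structureModule (X := X)) S hS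
  let s := n₁ + n₂
  have hQ := isInvertible_tensorMod (isInvertible_repCl c') (isInvertible_tensorPow hA.1 s)
  have hP := isInvertible_tensorMod (isInvertible_structureModule (X := X)) (isInvertible_tensorPow hA.1 s)
  refine ⟨_, _, hP, hQ, ?_, h₂ s (Nat.le_add_left _ _), h₁ s (Nat.le_add_right _ _)⟩
  rw [← EulerLib.InvCl.mk_mul (isInvertible_repCl c') (isInvertible_tensorPow hA.1 s), mk_repCl,
    ← EulerLib.InvCl.mk_mul (isInvertible_structureModule (X := X)) (isInvertible_tensorPow hA.1 s),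
    ← mul_assoc, hc']
  rfl

theorem exists_step' (hproj : ∃ A : X.Modules, CohB1.IsAmple A) (u : Fin r → (EulerLib.InvCl X)ˣ) (d : ℕ)
    (hA : ∀ G : X.Modules, Coh.IsCoh G → topologicalKrullDim (CohB1.support G) < (d : WithBot ℕ∞) → ∀ i : ℕ,
      ∃ C : ℕ, ∀ a, hh k G i (zcl u a) ≤ C * bnd d (len a)) :
    ∀ G : X.Modules, Coh.IsCoh G → topologicalKrullDim (CohB1.support G) < ((d + 1 : ℕ) : WithBot ℕ∞) →
      ∀ i : ℕ, ∃ C : ℕ, ∀ a j, |(hh k G i (zcl u (a + Pi.single j 1)) : ℤ) - hh k G i (zcl u a)| ≤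
        (C * bnd d (len a) : ℕ) := by
  intro G hG hd i
  haveI := EulerLib.isNoetherian_of_proper (X := X) k
  have hAss := AssSch12.finite_ass G hG
  choose P Q hP hQ hPQ hbP hbQ using fun j => exists_sections_diff' k hproj (u j : EulerLib.InvCl X) hAss
  choose bP hbP using hbP
  choose bQ hbQ using hbQ
  let CP := fun j => cokernel (EulerLib.mulSec G (bP j))
  let CQ := fun j => cokernel (EulerLib.mulSec G (bQ j))
  have hCP : ∀ j, Coh.IsCoh (CP j) := fun j => isCoh_cokernel _ hG.1 (EulerLib.isCoh_twist (hP j) hG)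
  have hCQ : ∀ j, Coh.IsCoh (CQ j) := fun j => isCoh_cokernel _ hG.1 (EulerLib.isCoh_twist (hQ j) hG)
  have hdP : ∀ j, topologicalKrullDim (CohB1.support (CP j)) < (d : WithBot ℕ∞) := fun j =>
    dim_cokernel_lt k (hP j) hG (bP j) (hbP j) hd
  have hdQ : ∀ j, topologicalKrullDim (CohB1.support (CQ j)) < (d : WithBot ℕ∞) := fun j =>
    dim_cokernel_lt k (hQ j) hG (bQ j) (hbQ j) hd
  choose α hα using fun j => hA (CP j) (hCP j) (hdP j) i
  choose α' hα' using fun j => hA (CP j) (hCP j) (hdP j) (i - 1)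
  choose γ hγ using fun j => hA (CQ j) (hCQ j) (hdQ j) i
  choose γ' hγ' using fun j => hA (CQ j) (hCQ j) (hdQ j) (i - 1)
  refine ⟨∑ j, (α j + α' j + 2 ^ d * (γ j + γ' j)), fun a j => ?_⟩
  haveI := Mumford23.mono_mulSec hG.1 (bP j) (hbP j)
  haveI := Mumford23.mono_mulSec hG.1 (bQ j) (hbQ j)
  have hSP : (ShortComplex.mk (EulerLib.mulSec G (bP j)) (cokernel.π _) (cokernel.condition _)).ShortExact :=
    { exact := ShortComplex.exact_cokernel _ }
  have hSQ : (ShortComplex.mk (EulerLib.mulSec G (bQ j)) (cokernel.π _) (cokernel.condition _)).ShortExact :=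
    { exact := ShortComplex.exact_cokernel _ }
  set c := zcl u a with hc
  have hc1 : zcl u (a + Pi.single j 1) = c * (u j : EulerLib.InvCl X) := zcl_add_single u a j
  obtain ⟨p1, p2⟩ := hh_triangle k hSP hG (EulerLib.isCoh_twist (hP j) hG) (hCP j) i c
  obtain ⟨q1, q2⟩ := hh_triangle k hSQ hG (EulerLib.isCoh_twist (hQ j) hG) (hCQ j) i (c * (u j : EulerLib.InvCl X))
  dsimp only at p1 p2 q1 q2
  -- both middle terms are `G ⊗ P ⊗ c`
  have hmid : hh k (CohB1.tensorMod G (P j)) i c =
      hh k (CohB1.tensorMod G (Q j)) i (c * (u j : EulerLib.InvCl X)) := by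
    have key : ∀ (R : X.Modules) (hR : PicF.IsInvertible R) (e : EulerLib.InvCl X),
        hh k (CohB1.tensorMod G R) i e = hh k G i (EulerLib.InvCl.mk R hR * e) := by
      intro R hR e
      obtain ⟨e₁⟩ := nonempty_twCl G R hR
      obtain ⟨e₂⟩ := nonempty_twCl_mul G (EulerLib.InvCl.mk R hR) e
      exact CurveRR24.finrank_HH_congr k (Coherent.tensorIso e₁.symm (Iso.refl _) ≪≫ e₂) i
    rw [key _ (hP j), key _ (hQ j), ← hPQ j]
    congr 1
    ac_rfl
  have hb : ∀ (C : ℕ) {x : ℕ}, x ≤ C * bnd d (len (a + Pi.single j 1)) → x ≤ 2 ^ d * C * bnd d (len a) :=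
    fun C x h => h.trans (le_trans (Nat.mul_le_mul_left _ ((bnd_mono d (len_add_single_le a j 1)).trans (bnd_succ_le d _)))
      (le_of_eq (by ring)))
  have a1 := hα j a
  have a2 := hα' j a
  have g1 := hb _ (hγ j (a + Pi.single j 1))
  have g2 := hb _ (hγ' j (a + Pi.single j 1))
  rw [hc1] at g1 g2 ⊢
  rw [← hc] at a1 a2
  have hS : (α j + α' j + 2 ^ d * (γ j + γ' j)) * bnd d (len a) ≤
      (∑ j, (α j + α' j + 2 ^ d * (γ j + γ' j))) * bnd d (len a) :=
    Nat.mul_le_mul_right _ (Finset.single_le_sum (f := fun j => α j + α' j + 2 ^ d * (γ j + γ' j))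
      (fun _ _ => Nat.zero_le _) (Finset.mem_univ j))
  generalize (∑ j, (α j + α' j + 2 ^ d * (γ j + γ' j))) = T at hS ⊢
  simp only [add_mul, mul_add] at hS
  have hi1 : (if i = 0 then 0 else hh k (CP j) (i - 1) c) ≤ hh k (CP j) (i - 1) c := by split <;> omega
  have hi2 : (if i = 0 then 0 else hh k (CQ j) (i - 1) (c * (u j : EulerLib.InvCl X))) ≤
      hh k (CQ j) (i - 1) (c * (u j : EulerLib.InvCl X)) := by split <;> omega
  rw [abs_le]
  simp only [CP, CQ] at *
  constructor <;> omega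

/-- Twisting once changes `h^i` by a quantity of lower order; `h^i` itself is bounded by the dimension of the
support. -/
theorem exists_bounds' (hproj : ∃ A : X.Modules, CohB1.IsAmple A) (u : Fin r → (EulerLib.InvCl X)ˣ) :
    ∀ d : ℕ,
      (∀ G : X.Modules, Coh.IsCoh G → topologicalKrullDim (CohB1.support G) < (d : WithBot ℕ∞) → ∀ i : ℕ,
        ∃ C : ℕ, ∀ a, hh k G i (zcl u a) ≤ C * bnd d (len a)) ∧
      (∀ G : X.Modules, Coh.IsCoh G → topologicalKrullDim (CohB1.support G) < ((d + 1 : ℕ) : WithBot ℕ∞) →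
        ∀ i : ℕ, ∃ C : ℕ, ∀ a j, |(hh k G i (zcl u (a + Pi.single j 1)) : ℤ) - hh k G i (zcl u a)| ≤
          (C * bnd d (len a) : ℕ)) := by
  haveI := EulerLib.isNoetherian_of_proper (X := X) k
  intro d
  induction d with
  | zero =>
    have hA : ∀ G : X.Modules, Coh.IsCoh G → topologicalKrullDim (CohB1.support G) < ((0 : ℕ) : WithBot ℕ∞) →
        ∀ i : ℕ, ∃ C : ℕ, ∀ a, hh k G i (zcl u a) ≤ C * bnd 0 (len a) := fun G _ hd i => ⟨0, fun a => by
      have h0 : CohB1.support G = ∅ := by
        by_contra hne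
        obtain ⟨x₀, hx₀⟩ := Set.nonempty_iff_ne_empty.2 hne
        haveI : Nonempty (TopologicalSpace.IrreducibleCloseds (CohB1.support G)) :=
          ⟨⟨closure {(⟨x₀, hx₀⟩ : CohB1.support G)}, isIrreducible_singleton.closure, isClosed_closure⟩⟩
        exact not_lt.2 (Order.krullDim_nonneg (α := TopologicalSpace.IrreducibleCloseds (CohB1.support G)))
          (by exact_mod_cast hd)
      haveI : Subsingleton (Coh.HH X (twCl G (zcl u a)) i) := EulerLib.subsingleton_HH_of_isZero
        (EulerLib.isZero_of_support_eq_empty ((EulerLib.support_twist (isInvertible_repCl _) G).trans h0)) i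
      exact le_of_eq_of_le Module.finrank_zero_of_subsingleton (Nat.zero_le _)⟩
    exact ⟨hA, exists_step' k hproj u 0 hA⟩
  | succ d ih =>
    have hA : ∀ G : X.Modules, Coh.IsCoh G → topologicalKrullDim (CohB1.support G) < ((d + 1 : ℕ) : WithBot ℕ∞) →
        ∀ i : ℕ, ∃ C : ℕ, ∀ a, hh k G i (zcl u a) ≤ C * bnd (d + 1) (len a) := fun G hG hd i => by
      obtain ⟨C, hC⟩ := ih.2 G hG hd i
      refine ⟨hh k G i (zcl u 0) + C, fun a => ?_⟩
      have h := abs_sub_le_of_step (fun a => (hh k G i (zcl u a) : ℤ)) (fun N => C * bnd d N)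
        (fun M N h => Nat.mul_le_mul_left _ (bnd_mono d h)) hC (len (a - 0)) 0 a rfl
      have hl : len (0 : Fin r → ℤ) = 0 := Finset.sum_eq_zero fun i _ => rfl
      rw [sub_zero, hl, zero_add] at h
      have h' := (le_abs_self _).trans h
      have h1 : 1 ≤ bnd (d + 1) (len a) := Nat.one_le_pow _ _ (by omega)
      have h2 : len a * (C * bnd d (len a)) ≤ C * bnd (d + 1) (len a) := by
        rw [mul_left_comm]
        exact Nat.mul_le_mul_left _ (mul_bnd_le d _)
      have h3 : hh k G i (zcl u 0) ≤ hh k G i (zcl u 0) * bnd (d + 1) (len a) := Nat.le_mul_of_pos_right _ h1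
      rw [add_mul]
      omega
    exact ⟨hA, exists_step' k hproj u (d + 1) hA⟩


end Groth.Agent.Growth14

end
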