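import Groth.Agent.Growth14.Bounds
import Groth.Agent.Coherent.RelExact14.EulerH0
import Groth.Agent.PicLib.PicMonoid
import Groth.Agent.H0Growth23.Big
import Groth.Agent.EulerLib.SupportVanishing

/-!
# Families of line bundles indexed by exponents
-/

set_option autoImplicit false
set_option linter.style.haveILetI false
set_option linter.unusedSectionVars false
set_option backward.isDefEq.respectTransparency false
set_option backward.isDefEq.respectTransparency.types false

universe u

open CategoryTheory CategoryTheory.Limits AlgebraicGeometry TopologicalSpace Opposite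
open Groth.Agent.Coherent Groth.Agent.PicLib Groth.Agent.AmpleLib Groth.Agent.H0Growth23 Groth.Agent.TwistLib

noncomputable section

namespace Groth.Agent.Growth14

variable {X : Scheme.{u}}

theorem exists_isAmple_of_embedding (k : Type u) [Field k] {N : ℕ} (c : X ⟶ CohB1.ProjSpace N k) [IsClosedImmersion c] :
    ∃ A : X.Modules, CohB1.IsAmple A := by
  classical
  let g : Fin (N + 1) → MvPolynomial (Fin (N + 1)) k := MvPolynomial.X
  have hg1 : ∀ j, g j ∈ CohB1.polyGrading N k 1 := ProjLib.X_mem_polyGrading N k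
  have hss : (HomogeneousIdeal.irrelevant (CohB1.polyGrading N k)).toIdeal =
      Ideal.span ((Finset.univ.image g : Finset _) : Set (MvPolynomial (Fin (N + 1)) k)) := by
    rw [Finset.coe_image, Finset.coe_univ, Set.image_univ]
    exact Coherent.RelExact14.irrelevant_eq_span (CohB1.polyGrading N k) N g hg1 MvPolynomial.adjoin_range_X
  have hs1 : ∀ f ∈ Finset.univ.image g, f ∈ CohB1.polyGrading N k 1 := fun f hf => by
    obtain ⟨j, -, rfl⟩ := Finset.mem_image.1 hf
    exact hg1 j
  exact ⟨_, isAmple_pullback_of_isAffineHom c (isAmple_twist_one _ hs1 hss)⟩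

/-- The class as a unit. -/
def unitCl (L : X.Modules) (hL : PicF.IsInvertible L) : (EulerLib.InvCl X)ˣ :=
  ⟨EulerLib.InvCl.mk L hL, (exists_inv hL).choose, (exists_inv hL).choose_spec,
    (mul_comm _ _).trans (exists_inv hL).choose_spec⟩

variable {r : ℕ}

theorem zcl_zero (u : Fin r → (EulerLib.InvCl X)ˣ) : zcl u (0 : Fin r → ℤ) = 1 := by
  simp [zcl]

theorem induction_single {p : (Fin r → ℤ) → Prop} (h0 : p 0) (hstep : ∀ a j, p a ↔ p (a + Pi.single j 1)) :
    ∀ a, p a := by
  suffices h : ∀ n a, len a = n → p a from fun a => h _ a rfl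
  intro n
  induction n using Nat.strong_induction_on with
  | _ n ih =>
    intro a ha
    by_cases h : a = 0
    · exact h ▸ h0
    obtain ⟨j, hj⟩ := Function.ne_iff.1 h
    have hlen : ∀ e : ℤ, (a j + e).natAbs < (a j).natAbs → len (a + Pi.single j e) < n := fun e he => by
      rw [← ha]
      refine Finset.sum_lt_sum (fun i _ => ?_) ⟨j, Finset.mem_univ _, by simpa using he⟩
      rcases eq_or_ne i j with rfl | hi
      · simpa using he.le
      · simp [hi]
    rcases lt_or_gt_of_ne hj with hneg | hpos
    · have hneg' : a j < 0 := hneg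
      exact (hstep a j).2 (ih _ (hlen 1 (by omega)) _ rfl)
    · have hpos' : 0 < a j := hpos
      have h1 := (hstep (a + Pi.single j (-1)) j).1 (ih _ (hlen (-1) (by omega)) _ rfl)
      rwa [add_assoc, ← Pi.single_add, neg_add_cancel, Pi.single_zero, add_zero] at h1

/-- A family multiplying up to given line bundles consists of the products. -/
theorem exists_mk_family (Lb : Fin r → X.Modules) (hLb : ∀ j, PicF.IsInvertible (Lb j))
    (F : (Fin r → ℤ) → X.Modules) (hF0 : Nonempty (F 0 ≅ Coh.structureModule X))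
    (hF : ∀ (a : Fin r → ℤ) (j : Fin r), Nonempty (F (a + Pi.single j 1) ≅ CohB1.tensorMod (F a) (Lb j))) :
    ∀ a, ∃ h : PicF.IsInvertible (F a), EulerLib.InvCl.mk (F a) h = zcl (fun j => unitCl (Lb j) (hLb j)) a := by
  refine induction_single ?_ fun a j => ⟨?_, ?_⟩
  · obtain ⟨e⟩ := hF0
    refine ⟨glocus_isInvertible_of_iso e.symm isInvertible_structureModule, ?_⟩
    rw [zcl_zero]
    exact EulerLib.InvCl.mk_eq _ isInvertible_structureModule e
  · rintro ⟨h, hm⟩
    obtain ⟨e⟩ := hF a j
    refine ⟨glocus_isInvertible_of_iso e.symm (isInvertible_tensorMod h (hLb j)), ?_⟩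
    rw [zcl_add_single, ← hm, EulerLib.InvCl.mk_eq _ (isInvertible_tensorMod h (hLb j)) e]
    rfl
  · rintro ⟨h, hm⟩
    obtain ⟨e⟩ := hF a j
    have ht : PicF.IsInvertible (CohB1.tensorMod (F a) (Lb j)) := glocus_isInvertible_of_iso e h
    have hi : PicF.IsInvertible (F a) :=
      PicM.isInvertible_of_tensor (hLb j) (glocus_isInvertible_of_iso (tensorComm _ _) ht)
    refine ⟨hi, (unitCl (Lb j) (hLb j)).isUnit.mul_right_cancel ?_⟩
    show EulerLib.InvCl.mk (F a) hi * EulerLib.InvCl.mk (Lb j) (hLb j) = _ * _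
    rw [EulerLib.InvCl.mk_mul, ← EulerLib.InvCl.mk_eq h (isInvertible_tensorMod hi (hLb j)) e, hm, zcl_add_single]

end Groth.Agent.Growth14
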